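import Groth.Agent.T1BC6.Fibre
import Groth.Agent.CAlgH3.ExtBaseChange
import Groth.Agent.CAlgH.NLPerfect
import Mathlib.RingTheory.Smooth.Locus

/-! `T¹` commutes with base change. -/

set_option autoImplicit false

universe u

open TensorProduct CategoryTheory

noncomputable section

namespace Groth.Agent.T1BC6

section beta

variable {P : Type u} [CommRing P] (B : Type u) [CommRing B] [Algebra P B]
  (M : Type u) [AddCommGroup M] [Module P M]

/-- `B ⊗ Hom(M, P) → Hom(B ⊗ M, B)`. -/
def β : B ⊗[P] (M →ₗ[P] P) →ₗ[B] (B ⊗[P] M →ₗ[B] B) :=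
  LinearMap.liftBaseChange B ((LinearMap.liftBaseChangeEquiv B).toLinearMap.restrictScalars P ∘ₗ
    LinearMap.compRight P (Algebra.linearMap P B))

theorem β_tmul (b : B) (φ : M →ₗ[P] P) (c : B) (m : M) :
    β B M (b ⊗ₜ φ) (c ⊗ₜ m) = b * (c * algebraMap P B (φ m)) := by
  simp [β, LinearMap.compRight]

variable {M} {N : Type u} [AddCommGroup N] [Module P N]

theorem β_natural (f : M →ₗ[P] N) (x : B ⊗[P] (N →ₗ[P] P)) :
    β B M ((f.lcomp P P).baseChange B x) = β B N x ∘ₗ f.baseChange B := by
  induction x using TensorProduct.induction_on with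
  | zero => simp
  | tmul b φ =>
    refine TensorProduct.AlgebraTensorModule.curry_injective (LinearMap.ext fun c => LinearMap.ext fun m => ?_)
    simp [β_tmul]
  | add x y hx hy => simp only [map_add, hx, hy, LinearMap.add_comp]

theorem β_bijective_free (ι : Type) [Finite ι] : Function.Bijective (β (P := P) B (ι → P)) := by
  let e := (Module.isBaseChange_map_of_finite_free (R := P) P B ι).equiv ≪≫ₗ
    LinearEquiv.congrRight (TensorProduct.AlgebraTensorModule.rid P B B)
  have : β (P := P) B (ι → P) = e.toLinearMap := by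
    refine TensorProduct.AlgebraTensorModule.curry_injective (LinearMap.ext fun b => LinearMap.ext fun φ => ?_)
    refine TensorProduct.AlgebraTensorModule.curry_injective (LinearMap.ext fun c => LinearMap.ext fun m => ?_)
    simp [e, β_tmul, IsBaseChange.equiv_tmul, LinearEquiv.congrRight, LinearEquiv.arrowCongr, Algebra.smul_def]
    ring
  rw [this]; exact e.bijective

theorem β_bijective [Module.Finite P M] [Module.Projective P M] : Function.Bijective (β (P := P) B M) := by
  obtain ⟨n, r, hr⟩ := Module.Finite.exists_fin' P M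
  obtain ⟨s, hs⟩ := Module.projective_lifting_property r LinearMap.id hr
  obtain ⟨hinj, hsurj⟩ := β_bijective_free (P := P) B (Fin n)
  have hsr : ∀ x, (s.lcomp P P).baseChange B ((r.lcomp P P).baseChange B x) = x := fun x => by
    rw [← LinearMap.comp_apply, ← LinearMap.baseChange_comp,
      show s.lcomp P P ∘ₗ r.lcomp P P = LinearMap.id from
        LinearMap.ext fun φ => LinearMap.ext fun m => congrArg φ (LinearMap.congr_fun hs m),
      LinearMap.baseChange_id, LinearMap.id_apply]
  refine ⟨(injective_iff_map_eq_zero _).2 fun x hx => ?_, fun φ => ?_⟩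
  · have h0 : (r.lcomp P P).baseChange B x = 0 := hinj (by rw [β_natural, hx, map_zero, LinearMap.zero_comp])
    rw [← hsr x, h0, map_zero]
  · obtain ⟨y, hy⟩ := hsurj (φ ∘ₗ r.baseChange B)
    refine ⟨(s.lcomp P P).baseChange B y, ?_⟩
    rw [β_natural, hy, LinearMap.comp_assoc, ← LinearMap.baseChange_comp, hs, LinearMap.baseChange_id, LinearMap.comp_id]

/-- Base change of `Ext¹` along a presentation by finite projectives which stays injective. -/
theorem nonempty_ext_one {C F Ω Ω' : Type u} [AddCommGroup C] [Module P C] [AddCommGroup F] [Module P F]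
    [AddCommGroup Ω] [Module P Ω] [AddCommGroup Ω'] [Module B Ω']
    [Module.Finite P C] [Module.Projective P C] [Module.Finite P F] [Module.Projective P F]
    (ι : C →ₗ[P] F) (π : F →ₗ[P] Ω) (hι : Function.Injective ι) (hπ : Function.Surjective π)
    (hex : Function.Exact ι π) (hι' : Function.Injective (ι.baseChange B))
    (μ : B ⊗[P] Ω →ₗ[B] Ω') (hμ : Function.Bijective μ) :
    Nonempty (B ⊗[P] Abelian.Ext.{u} (ModuleCat.of P Ω) (ModuleCat.of P P) 1 ≃ₗ[B]
      Abelian.Ext.{u} (ModuleCat.of B Ω') (ModuleCat.of B B) 1) := by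
  obtain ⟨p, hp, hpker⟩ := CAlgH3.exists_ext_one_presentation P hι hπ hex
  have hπ' : Function.Surjective (μ ∘ₗ π.baseChange B) := hμ.2.comp (LinearMap.lTensor_surjective B hπ)
  have hex' : Function.Exact (ι.baseChange B) (μ ∘ₗ π.baseChange B) := by
    intro y
    rw [LinearMap.comp_apply, map_eq_zero_iff μ hμ.1]
    exact lTensor_exact B hex hπ y
  obtain ⟨q, hq, hqker⟩ := CAlgH3.exists_ext_one_presentation B hι' hπ' hex'
  let Ψ := LinearEquiv.ofBijective (β (P := P) B C) (β_bijective B)
  let Φ := LinearEquiv.ofBijective (β (P := P) B F) (β_bijective B)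
  have hsq : (ι.baseChange B).lcomp B B ∘ₗ Φ.toLinearMap = Ψ.toLinearMap ∘ₗ (ι.lcomp P P).baseChange B :=
    LinearMap.ext fun x => (β_natural B ι x).symm
  have hpB : Function.Surjective (p.baseChange B) := LinearMap.lTensor_surjective B hp
  have hkerB : LinearMap.ker (p.baseChange B) = LinearMap.range ((ι.lcomp P P).baseChange B) :=
    LinearMap.exact_iff.1 (show Function.Exact ((ι.lcomp P P).baseChange B) (p.baseChange B) from
      lTensor_exact B (LinearMap.exact_iff.2 hpker) hp)
  have hker : LinearMap.ker (q ∘ₗ Ψ.toLinearMap) = LinearMap.ker (p.baseChange B) := by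
    rw [LinearMap.ker_comp, hqker, hkerB,
      show LinearMap.range ((ι.baseChange B).lcomp B B) =
          (LinearMap.range ((ι.lcomp P P).baseChange B)).map Ψ.toLinearMap by
        rw [← LinearMap.range_comp_of_range_eq_top _ (LinearEquiv.range Φ), hsq, LinearMap.range_comp],
      Submodule.comap_map_eq_of_injective Ψ.injective]
  exact ⟨(LinearMap.quotKerEquivOfSurjective _ hpB).symm ≪≫ₗ Submodule.quotEquivOfEq _ _ hker.symm ≪≫ₗ
    LinearMap.quotKerEquivOfSurjective _ (hq.comp Ψ.surjective)⟩

end beta

/-- A presentation splits after multiplication by an element outside a point of the free locus. -/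
theorem exists_retraction {P C F Ω : Type u} [CommRing P] [AddCommGroup C] [Module P C] [AddCommGroup F]
    [Module P F] [AddCommGroup Ω] [Module P Ω] [Module.FinitePresentation P Ω]
    (ι : C →ₗ[P] F) (π : F →ₗ[P] Ω) (hι : Function.Injective ι) (hπ : Function.Surjective π)
    (hex : Function.Exact ι π) (q : Ideal P) [q.IsPrime]
    (hfree : Module.Free (Localization.AtPrime q) (LocalizedModule q.primeCompl Ω)) :
    ∃ (m : P) (r : F →ₗ[P] C), m ∉ q ∧ r ∘ₗ ι = m • LinearMap.id := by
  haveI := hfree
  let lF := LocalizedModule.mkLinearMap q.primeCompl F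
  let lΩ := LocalizedModule.mkLinearMap q.primeCompl Ω
  let πq := LocalizedModule.map q.primeCompl π
  obtain ⟨σ, hσ⟩ := Module.projective_lifting_property πq LinearMap.id (LocalizedModule.map_surjective q.primeCompl π hπ)
  obtain ⟨h, s, hs⟩ := Module.FinitePresentation.exists_lift_of_isLocalizedModule q.primeCompl lF
    (σ.restrictScalars P ∘ₗ lΩ)
  have h1 : lΩ ∘ₗ (π ∘ₗ h) = lΩ ∘ₗ ((s : P) • LinearMap.id) := by
    refine LinearMap.ext fun x => ?_
    have h2 : lΩ (π (h x)) = πq (lF (h x)) := by simp [lΩ, lF, πq]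
    have h3 : lF (h x) = (s : P) • σ (lΩ x) := LinearMap.congr_fun hs x
    simp only [LinearMap.comp_apply, LinearMap.smul_apply, LinearMap.id_apply, map_smul]
    rw [h2, h3, LinearMap.map_smul_of_tower]
    exact congrArg ((s : P) • ·) (LinearMap.congr_fun hσ _)
  obtain ⟨t, ht⟩ := Module.Finite.exists_smul_of_comp_eq_of_isLocalizedModule q.primeCompl lΩ _ _ h1
  let m : P := t * s
  let g : F →ₗ[P] F := m • LinearMap.id - ((t : P) • h) ∘ₗ π
  have hg : ∀ y, g y ∈ LinearMap.range ι := fun y => by
    refine (hex _).1 ?_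
    have h4 : (t : P) • π (h (π y)) = (t : P) • (s : P) • π y := LinearMap.congr_fun ht (π y)
    show π (m • y - (t : P) • h (π y)) = 0
    rw [map_sub, map_smul, map_smul, h4, smul_smul, sub_self]
  refine ⟨m, (LinearEquiv.ofInjective ι hι).symm.toLinearMap ∘ₗ g.codRestrict _ hg, ?_, LinearMap.ext fun x => ?_⟩
  · exact (t * s).2
  · apply hι
    show ι ((LinearEquiv.ofInjective ι hι).symm ⟨g (ι x), hg (ι x)⟩) = ι (m • x)
    rw [← LinearEquiv.ofInjective_apply (h := hι), LinearEquiv.apply_symm_apply, map_smul]
    show m • ι x - (t : P) • h (π (ι x)) = m • ι x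
    rw [hex.apply_apply_eq_zero, map_zero, smul_zero, sub_zero]

theorem mem_associatedPrimes_of_projective {B M : Type u} [CommRing B] [IsNoetherianRing B] [AddCommGroup M]
    [Module B M] [Module.Finite B M] [Module.Projective B M] {Q : Ideal B} (hQ : Q ∈ associatedPrimes B M) :
    Q ∈ associatedPrimes B B := by
  classical
  obtain ⟨n, r, hr⟩ := Module.Finite.exists_fin' B M
  obtain ⟨s, hs⟩ := Module.projective_lifting_property r LinearMap.id hr
  have hQ' := associatedPrimes.subset_of_injective (f := s)
    (fun x y h => by simpa [← LinearMap.comp_apply, hs] using congrArg r h) hQ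
  obtain ⟨hp, x, hx⟩ := isAssociatedPrime_iff.1 hQ'
  have hinf : (Finset.univ.inf fun j => (⊥ : Submodule B B).colon {x j}) ≤ Q := by
    intro b hb
    rw [hx, Submodule.mem_colon_singleton, Submodule.mem_bot]
    funext j
    have h1 := Submodule.mem_finsetInf.1 hb j (Finset.mem_univ j)
    rw [Submodule.mem_colon_singleton, Submodule.mem_bot] at h1
    exact h1
  obtain ⟨j, -, hj⟩ := hp.inf_le'.1 hinf
  refine isAssociatedPrime_iff.2 ⟨hp, x j, le_antisymm (fun b hb => ?_) hj⟩
  rw [hx, Submodule.mem_colon_singleton, Submodule.mem_bot] at hb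
  rw [Submodule.mem_colon_singleton, Submodule.mem_bot]
  exact congrFun hb j

variable {A : Type u} [CommRing A] [IsNoetherianRing A] {P : Type u} [CommRing P] [Algebra A P] [Module.Flat A P]

/-- The theorem. -/
theorem nonempty_T1 (hlci : LCI.IsLCI A P)
    (hgs : ∀ 𝔓 : PrimeSpectrum P,
      (∀ 𝔔 : PrimeSpectrum P, 𝔔 ≤ 𝔓 →
          𝔔.asIdeal.comap (algebraMap A P) = 𝔓.asIdeal.comap (algebraMap A P) → 𝔔 = 𝔓) →
        𝔓 ∈ Algebra.smoothLocus A P)
    (J : Ideal A) :
    Nonempty
      ((P ⧸ J.map (algebraMap A P)) ⊗[P]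
          Abelian.Ext.{u} (ModuleCat.of P (KaehlerDifferential A P)) (ModuleCat.of P P) 1 ≃ₗ[P ⧸ J.map (algebraMap A P)]
        Abelian.Ext.{u}
          (ModuleCat.of (P ⧸ J.map (algebraMap A P)) (KaehlerDifferential A (P ⧸ J.map (algebraMap A P))))
          (ModuleCat.of (P ⧸ J.map (algebraMap A P)) (P ⧸ J.map (algebraMap A P))) 1) := by
  classical
  haveI hH1 := LciGenSmooth29.subsingleton_h1Cotangent P hlci hgs
  obtain ⟨hft, n, f, hf, hI⟩ := hlci
  haveI := hft
  haveI : IsNoetherianRing P := isNoetherianRing_of_surjective _ P f.toRingHom hf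
  obtain ⟨G, hG, -⟩ := CAlgH.NLPerfect.exists_generators f hf
  obtain ⟨hCf, hCp⟩ := CAlgH.NLPerfect.cotangent_finite_projective G.toExtension
    (CAlgH.NLPerfect.projective_cotangent _ (hG hI))
  haveI := hCf; haveI := hCp
  haveI : Module.Free P G.toExtension.CotangentSpace := Module.Free.of_basis G.cotangentSpaceBasis
  haveI : Module.Finite P G.toExtension.CotangentSpace := Module.Finite.of_basis G.cotangentSpaceBasis
  let ι := G.toExtension.cotangentComplex
  let π := G.toExtension.toKaehler
  have hι : Function.Injective ι := (Algebra.Extension.subsingleton_h1Cotangent _).1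
    G.equivH1Cotangent.toEquiv.subsingleton
  have hπ : Function.Surjective π := Algebra.Extension.toKaehler_surjective
  have hex : Function.Exact ι π := Algebra.Extension.exact_cotangentComplex_toKaehler
  haveI : Module.Finite P (KaehlerDifferential A P) := Module.Finite.of_surjective π hπ
  haveI : Module.FinitePresentation P (KaehlerDifferential A P) := Module.finitePresentation_of_finite P _
  let K : Ideal P := J.map (algebraMap A P)
  let B := P ⧸ K
  haveI : Algebra.EssFiniteType A P := inferInstance
  have hι' : Function.Injective (ι.baseChange B) := by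
    rw [← LinearMap.ker_eq_bot]
    by_contra hne
    haveI : Nontrivial ↥(LinearMap.ker (ι.baseChange B)) := Submodule.nontrivial_iff_ne_bot.2 hne
    obtain ⟨Q, hQass⟩ := associatedPrimes.nonempty B ↥(LinearMap.ker (ι.baseChange B))
    obtain ⟨hQp, x, hx⟩ := isAssociatedPrime_iff.1 hQass
    let q := Q.comap (algebraMap P B)
    obtain ⟨-, y, hy⟩ := isAssociatedPrime_iff.1 (mem_associatedPrimes_of_projective
      (associatedPrimes.subset_of_injective (Submodule.injective_subtype _) hQass))
    have hqB : q ∈ associatedPrimes P (P ⧸ K • (⊤ : Submodule P P)) := by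
      have hqB' : q ∈ associatedPrimes P B := by
        refine isAssociatedPrime_iff.2 ⟨inferInstance, y, Ideal.ext fun t => ?_⟩
        rw [Ideal.mem_comap, hy, Submodule.mem_colon_singleton, Submodule.mem_bot, Submodule.mem_colon_singleton,
          Submodule.mem_bot, algebraMap_smul]
      rwa [LinearEquiv.AssociatedPrimes.eq (Submodule.quotEquivOfEq _ K (by rw [smul_eq_mul, Ideal.mul_top]))]
    rw [← LinearEquiv.AssociatedPrimes.eq (CAlgH3.FiberMod.tensorQuotEquiv (S := P) (N := P) J)] at hqB
    have hq := (CAlgH3.AssFlat.mem_of_mem hqB).2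
    have hsm : (⟨q, inferInstance⟩ : PrimeSpectrum P) ∈ Algebra.smoothLocus A P :=
      hgs _ fun R hR hRc => PrimeSpectrum.ext (minimal_in_fibre f hf hI q hq R.asIdeal hR hRc)
    rw [Algebra.smoothLocus_eq_compl_support_inter] at hsm
    obtain ⟨m, r, hm, hr⟩ := exists_retraction ι π hι hπ hex q hsm.2
    have h0 : m • (x : B ⊗[P] G.toExtension.Cotangent) = 0 := by
      have h1 : r.baseChange B (ι.baseChange B x.1) = m • x.1 := by
        rw [← LinearMap.comp_apply, ← LinearMap.baseChange_comp, hr, LinearMap.baseChange_smul, LinearMap.baseChange_id]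
        rfl
      rw [← h1, LinearMap.mem_ker.1 x.2, map_zero]
    refine hm (show algebraMap P B m ∈ Q from ?_)
    rw [hx, Submodule.mem_colon_singleton, Submodule.mem_bot]
    refine Subtype.ext ?_
    rw [Submodule.coe_smul, algebraMap_smul]
    exact h0
  have hμ : Function.Bijective (KaehlerDifferential.mapBaseChange A P B) := by
    refine ⟨?_, KaehlerDifferential.mapBaseChange_surjective A P B Ideal.Quotient.mk_surjective⟩
    rw [← LinearMap.ker_eq_bot, Submodule.eq_bot_iff]
    intro z hz
    obtain ⟨w, rfl⟩ := (KaehlerDifferential.exact_kerCotangentToTensor_mapBaseChange A P B Ideal.Quotient.mk_surjective z).1 hz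
    obtain ⟨⟨v, hv⟩, rfl⟩ := Ideal.toCotangent_surjective _ w
    rw [KaehlerDifferential.kerCotangentToTensor_toCotangent]
    have hker : RingHom.ker (algebraMap P B) = K := Ideal.mk_ker
    show (1 : B) ⊗ₜ[P] KaehlerDifferential.D A P v = 0
    have hv' : v ∈ K := hker.le hv
    clear hz hv
    simp only [K] at hv'
    induction hv' using Submodule.span_induction with
    | mem a ha =>
      obtain ⟨a, ha, rfl⟩ := ha
      rw [Derivation.map_algebraMap, tmul_zero]
    | zero => rw [map_zero, tmul_zero]
    | add a b _ _ ha hb => rw [map_add, tmul_add, ha, hb, add_zero]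
    | smul c a ha' ha =>
      have hz : c • (1 : B) = Ideal.Quotient.mk K c := by rw [Algebra.smul_def, mul_one]; rfl
      rw [smul_eq_mul, Derivation.leibniz, tmul_add, ← TensorProduct.smul_tmul, ← TensorProduct.smul_tmul]
      have ha0 : a • (1 : B) = 0 := by
        rw [Algebra.smul_def, mul_one]
        exact Ideal.Quotient.eq_zero_iff_mem.2 ha'
      rw [ha0, zero_tmul, add_zero, TensorProduct.smul_tmul, tmul_smul, ha, smul_zero]
  exact nonempty_ext_one B ι π hι hπ hex hι' _ hμ

end Groth.Agent.T1BC6
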