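import Groth.Agent.LciGenSmooth29

/-! Associated primes of base changed local complete intersections are minimal in their fibres
(variant of helper29's proof). -/

set_option autoImplicit false

universe u

open IsLocalRing RingTheory.Sequence TensorProduct
open Groth.Agent.Disc12.Koszul Groth.Agent.CAlgH.KoszulRegular
open Groth.Agent.LciGenSmooth29 (exists_local_regular eq_maximalIdeal_of_regular)

noncomputable section

namespace Groth.Agent.T1BC6

variable {A : Type u} [CommRing A] [IsNoetherianRing A]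

theorem minimal_in_fibre {n : ℕ} {P : Type u} [CommRing P] [Algebra A P] [Module.Flat A P]
    (f : MvPolynomial (Fin n) A →ₐ[A] P) (hf : Function.Surjective f)
    (hI : LCI.IsKoszulRegularIdeal (RingHom.ker f.toRingHom)) (Q : Ideal P) [Q.IsPrime]
    (hQ : Q ∈ associatedPrimes P (P ⊗[A] (A ⧸ Q.comap (algebraMap A P))))
    (Q' : Ideal P) [Q'.IsPrime] (hle : Q' ≤ Q) (hcomap : Q'.comap (algebraMap A P) = Q.comap (algebraMap A P)) :
    Q' = Q := by
  classical
  haveI : IsNoetherianRing P := isNoetherianRing_of_surjective _ P f.toRingHom hf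
  let S := MvPolynomial (Fin n) A
  let I := RingHom.ker f.toRingHom
  let p := Q.comap (algebraMap A P)
  let q := Q.comap f.toRingHom
  have hIq : I ≤ q := fun x hx => show f x ∈ Q by rw [show f x = 0 from hx]; exact Q.zero_mem
  have hp : q.comap (algebraMap A S) = p := by
    ext a
    show f (algebraMap A S a) ∈ Q ↔ algebraMap A P a ∈ Q
    rw [AlgHom.commutes]
  obtain ⟨w, hw⟩ : ∃ w : P ⧸ p.map (algebraMap A P) • (⊤ : Submodule P P),
      Q = (⊥ : Submodule P (P ⧸ p.map (algebraMap A P) • (⊤ : Submodule P P))).colon {w} := by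
    have h1 : Q ∈ associatedPrimes P (P ⊗[A] (A ⧸ p)) := hQ
    rw [LinearEquiv.AssociatedPrimes.eq (CAlgH3.FiberMod.tensorQuotEquiv (S := P) (N := P) p)] at h1
    exact (isAssociatedPrime_iff.1 h1).2
  obtain ⟨w, rfl⟩ := Submodule.Quotient.mk_surjective _ w
  obtain ⟨s, rfl⟩ := hf w
  let L := Localization.AtPrime q
  obtain ⟨c, r, -, hspan, hrm, hwr⟩ := exists_local_regular I hI q hIq
  let a := p.map (algebraMap A L)
  haveI : IsNoetherianRing L := IsLocalization.isNoetherianRing q.primeCompl L inferInstance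
  haveI : IsRegularLocalRing (L ⧸ a) := by
    have h : IsRegularLocalRing (L ⧸ (q.comap (algebraMap A S)).map (algebraMap A L)) :=
      CAlgH.CIOpen.isRegularLocalRing_fib_mvPolynomial (R := A) n q
    rw [hp] at h
    exact h
  let rb : Fin c → L ⧸ a := fun i => Ideal.Quotient.mk a (r i)
  have hmaxeq : maximalIdeal (L ⧸ a) = (maximalIdeal L).map (Ideal.Quotient.mk a) := by
    haveI := Ideal.comap_isMaximal_of_surjective (Ideal.Quotient.mk a) Ideal.Quotient.mk_surjective
      (K := maximalIdeal (L ⧸ a))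
    rw [← IsLocalRing.eq_maximalIdeal (I := Ideal.comap (Ideal.Quotient.mk a) (maximalIdeal (L ⧸ a))) inferInstance,
      Ideal.map_comap_of_surjective _ Ideal.Quotient.mk_surjective]
  have hrbm : ∀ i, rb i ∈ maximalIdeal (L ⧸ a) := fun i => by
    rw [hmaxeq]
    exact Ideal.mem_map_of_mem _ (hrm i)
  haveI : Module.Flat A (L ⧸ Ideal.span (Set.range r)) := by
    rw [hspan]
    refine CAlgH.CIOpen.flat_quotient_localization q I ?_
    haveI : Module.Flat A (S ⧸ I) := Module.Flat.of_linearEquiv
      (Ideal.quotientKerAlgEquivOfSurjective hf).toLinearEquiv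
    exact Props12.flat_localizedModule q.primeCompl (S ⧸ I)
  have hreg : IsWeaklyRegular (L ⧸ a) (List.ofFn rb) :=
    CAlgH.CIImmersion.isWeaklyRegular_fibre_of_flat_quotient p r hwr hrbm
  let π : S →+* L ⧸ a := (Ideal.Quotient.mk a).comp (algebraMap S L)
  let J : Ideal (L ⧸ a) := Ideal.ofList (List.ofFn rb)
  have hJ : J = I.map π := by
    show Ideal.ofList (List.ofFn rb) = _
    rw [← Ideal.map_map, ← hspan, Ideal.map_span, Ideal.ofList]
    congr 1
    ext x
    simp [rb, List.mem_ofFn]
  have hmemJ : ∀ t : S, π t ∈ J ↔ ∃ u ∉ q, f (u * t) ∈ p.map (algebraMap A P) := by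
    intro t
    have hmap : (I ⊔ p.map (algebraMap A S)).map (algebraMap S L) = I.map (algebraMap S L) ⊔ a := by
      rw [Ideal.map_sup, Ideal.map_map, ← IsScalarTower.algebraMap_eq]
    have h1 : π t ∈ J ↔ algebraMap S L t ∈ (I ⊔ p.map (algebraMap A S)).map (algebraMap S L) := by
      rw [hJ, hmap, ← Ideal.map_map]
      show Ideal.Quotient.mk a (algebraMap S L t) ∈ _ ↔ _
      rw [← Ideal.mem_comap, Ideal.comap_map_of_surjective' _ Ideal.Quotient.mk_surjective, Ideal.mk_ker]
    have h2 : ∀ z : S, z ∈ I ⊔ p.map (algebraMap A S) ↔ f z ∈ p.map (algebraMap A P) := by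
      intro z
      rw [← f.comp_algebraMap, ← Ideal.map_map, sup_comm]
      show z ∈ p.map (algebraMap A S) ⊔ RingHom.ker f.toRingHom ↔ z ∈ ((p.map (algebraMap A S)).map f.toRingHom).comap f.toRingHom
      rw [Ideal.comap_map_of_surjective' f.toRingHom hf]
    rw [h1, IsLocalization.algebraMap_mem_map_algebraMap_iff q.primeCompl]
    exact exists_congr fun u => and_congr Iff.rfl (h2 _)
  have hann : ∀ z : P, z ∈ Q ↔ z * f s ∈ p.map (algebraMap A P) := by
    intro z
    rw [hw, Submodule.mem_colon_singleton, Submodule.mem_bot, ← Submodule.Quotient.mk_smul,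
      Submodule.Quotient.mk_eq_zero, smul_eq_mul, smul_eq_mul, Ideal.mul_top]
  have hx : π s ∉ J := fun h => by
    obtain ⟨u, hu, hus⟩ := (hmemJ s).1 h
    rw [map_mul, ← hann] at hus
    exact hu hus
  have hkill : ∀ t ∈ maximalIdeal (L ⧸ a), t * π s ∈ J := by
    intro t ht
    rw [hmaxeq, ← Localization.AtPrime.map_eq_maximalIdeal, Ideal.map_map] at ht
    have hle : q.map π ≤ Submodule.comap (LinearMap.mulRight (L ⧸ a) (π s)) J := by
      refine Ideal.map_le_iff_le_comap.2 fun t ht => ?_
      show π t * π s ∈ J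
      rw [← map_mul, hmemJ]
      refine ⟨1, q.primeCompl.one_mem, ?_⟩
      rw [one_mul, map_mul, ← hann]
      exact ht
    exact hle ht
  let q' := Q'.comap f.toRingHom
  have hq'q : q' ≤ q := Ideal.comap_mono hle
  have hdisj : Disjoint (q.primeCompl : Set S) (q' : Set S) :=
    Set.disjoint_left.2 fun x hx hx' => hx (hq'q hx')
  let M' := q'.map (algebraMap S L)
  haveI : M'.IsPrime := IsLocalization.isPrime_of_isPrime_disjoint q.primeCompl L q' inferInstance hdisj
  have haM : a ≤ M' := by
    rw [Ideal.map_le_iff_le_comap]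
    intro x hx
    rw [Ideal.mem_comap, IsScalarTower.algebraMap_apply A S L]
    refine Ideal.mem_map_of_mem _ ?_
    show f (algebraMap A S x) ∈ Q'
    rw [AlgHom.commutes]
    exact (hcomap.symm.le hx : x ∈ Q'.comap (algebraMap A P))
  haveI : (M'.map (Ideal.Quotient.mk a)).IsPrime :=
    Ideal.map_isPrime_of_surjective Ideal.Quotient.mk_surjective (by rwa [Ideal.mk_ker])
  have hM' : M'.map (Ideal.Quotient.mk a) = maximalIdeal (L ⧸ a) := by
    refine eq_maximalIdeal_of_regular (List.ofFn rb)
      (fun x hx => by obtain ⟨i, rfl⟩ := List.mem_ofFn.1 hx; exact hrbm i) hreg (π s) hx hkill _ ?_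
    show J ≤ _
    rw [hJ, ← Ideal.map_map]
    exact Ideal.map_mono (Ideal.map_mono fun x hx => show f x ∈ Q' by rw [show f x = 0 from hx]; exact Q'.zero_mem)
  have hM'' : M' = maximalIdeal L := by
    have h := congrArg (Ideal.comap (Ideal.Quotient.mk a)) hM'
    rw [Ideal.comap_map_of_surjective' _ Ideal.Quotient.mk_surjective, Ideal.mk_ker, sup_eq_left.2 haM] at h
    rw [h]
    haveI := Ideal.comap_isMaximal_of_surjective (Ideal.Quotient.mk a) Ideal.Quotient.mk_surjective
      (K := maximalIdeal (L ⧸ a))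
    exact IsLocalRing.eq_maximalIdeal inferInstance
  have hqq : q' = q := by
    rw [← IsLocalization.comap_map_of_isPrime_disjoint q.primeCompl L (inferInstance : q'.IsPrime) hdisj]
    show M'.comap _ = _
    rw [hM'']
    exact IsLocalization.AtPrime.comap_maximalIdeal L q
  exact Ideal.comap_injective_of_surjective f.toRingHom hf hqq

end Groth.Agent.T1BC6
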